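import Groth.Agent.HomLib.Basic
import Groth.Agent.QCohLib.Push
import Groth.Agent.PullbackMod.LocFree
import Groth.Agent.ProjLocal.Basic
import Groth.Agent.ProjCoh.PSData
import Mathlib.Algebra.Module.Projective

/-!
# A finite locally free module factors through `O` after multiplication by a power of `f`
-/

set_option autoImplicit false
set_option backward.isDefEq.respectTransparency false
set_option backward.defeqAttrib.useBackward true

universe u

open CategoryTheory CategoryTheory.Limits AlgebraicGeometry TopologicalSpace Opposite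
open Groth.Agent.CohBase Groth.Agent.HomLib

noncomputable section

namespace Groth.Agent.FactorOne

variable {X : Scheme.{u}} (F : X.Modules)

/-- The sections of a finite locally free module over an affine open are projective. -/
theorem projective_sections (hF : FlatMod.IsFinLocFree F) {W : X.Opens} (hW : IsAffineOpen W) :
    Module.Projective Γ(X, W) Γ(F, W) := by
  haveI := (PullbackMod.isQCoh_and_isFP_of_isFinLocFree F hF).1
  choose D hD n hx e using PullbackMod.exists_tilde_iso F hF
  refine ProjLocal.projective_sections (F := F) D (eq_top_iff.2 fun x _ => Opens.mem_iSup.2 ⟨x, hx x⟩) hD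
    (fun x => ?_) hW
  obtain ⟨e⟩ := e x
  let eΓ := (moduleSpecΓFunctor (R := Γ(X, D x))).mapIso e ≪≫
    ((tilde.toTildeΓNatIso (R := Γ(X, D x))).app _).symm
  exact Module.Projective.of_equiv (((QCohLib.topEquiv F (hD x)).symm.trans eΓ.toLinearEquiv).symm)

/-- Multiplication by a global function. -/
def mulEnd (g : Γ(X, ⊤)) : F ⟶ F :=
  ⟨PresheafOfModules.homMk (Coh.smulAb F g).hom fun U r m => by
    show Coh.resTop X U g • r • m = r • Coh.resTop X U g • m
    rw [smul_smul, smul_smul]
    exact congrArg (· • m) (mul_comm (G := Γ(X, U.unop)) _ _)⟩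

lemma toAb_mulEnd (g : Γ(X, ⊤)) : (QCohLib.toAbF X).map (mulEnd F g) = Coh.smulAb F g := rfl

lemma mulEnd_app (g : Γ(X, ⊤)) (V : X.Opens) (m : Γ(F, V)) :
    (mulEnd F g).app V m = (X.presheaf.map (homOfLE (le_top : V ≤ ⊤)).op g : Γ(X, V)) • m := rfl

/-- Multiples of the restriction of a global section. -/
def smulSec (s : Γ(F, ⊤)) (U : X.Opens) : Γ(X, U) →+ Γ(F, U) where
  toFun c := c • F.presheaf.map (homOfLE (le_top : U ≤ ⊤)).op s
  map_zero' := zero_smul _ _
  map_add' a b := add_smul a b _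

/-- The map `O → F` given by a global section. -/
def ofSection (s : Γ(F, ⊤)) : Coh.structureModule X ⟶ F :=
  ⟨PresheafOfModules.homMk
    { app := fun U => AddCommGrpCat.ofHom
        (smulSec F s U.unop)
      naturality := fun {U V} i => by
        ext (c : Γ(X, U.unop))
        show (show Γ(X, V.unop) from X.presheaf.map i c) • F.presheaf.map (homOfLE (le_top : V.unop ≤ ⊤)).op s =
          F.presheaf.map i ((c : Γ(X, U.unop)) • F.presheaf.map (homOfLE (le_top : U.unop ≤ ⊤)).op s)
        refine Eq.trans ?_ (HomLib.res_smul' i.unop.le c _).symm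
        rw [show F.presheaf.map (homOfLE i.unop.le).op (F.presheaf.map (homOfLE le_top).op s) =
          F.presheaf.map (homOfLE le_top).op s from restr_trans F le_top i.unop.le s]
        rfl }
    (fun U (r : Γ(X, U.unop)) (c : Γ(X, U.unop)) => mul_smul r c (F.presheaf.map (homOfLE (le_top : U.unop ≤ ⊤)).op s))⟩

lemma ofSection_app (s : Γ(F, ⊤)) (V : X.Opens) (c : Γ(X, V)) :
    (ofSection F s).app V c = c • F.presheaf.map (homOfLE le_top).op s := rfl

lemma app_sum {M N : X.Modules} {ι : Type} [Fintype ι] (φ : ι → (M ⟶ N)) (V : X.Opens) (m : Γ(M, V)) :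
    (∑ j, φ j).app V m = ∑ j, (φ j).app V m := by
  let e : (M ⟶ N) →+ Γ(N, V) :=
    { toFun := fun f => f.app V m
      map_zero' := rfl
      map_add' := fun f g => rfl }
  exact map_sum e φ Finset.univ

lemma ev_zero {M N : X.Modules} {U V : X.Opens} (h : V ≤ U) (m : Γ(M, V)) :
    ev (0 : Γ(RefHull.homSh M N, U)) h m = 0 :=
  ext_germ _ _ fun x hx => by
    rw [germ_ev, map_zero]
    rfl

lemma ev_smul' {M N : X.Modules} {U : X.Opens} (a : Γ(X, U)) (f : Γ(RefHull.homSh M N, U)) {V : X.Opens}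
    (h : V ≤ U) (m : Γ(M, V)) :
    ev (a • f) h m = X.presheaf.map (homOfLE h).op a • ev f h m :=
  ext_germ _ _ fun x hx => by
    rw [germ_ev, germ_smul', germ_ev, TopCat.Presheaf.germ_res_apply]
    rfl

lemma ev_of_res {M N : X.Modules} {U V : X.Opens} (f : Γ(RefHull.homSh M N, U)) (h : V ≤ U) (m : Γ(M, V)) :
    ev ((RefHull.homSh M N).presheaf.map (homOfLE h).op f) le_rfl m = ev f h m :=
  ext_germ _ _ fun x hx => by
    rw [germ_ev, germ_ev]
    rfl

/-- After multiplication by a power of `f` the identity factors through finitely many copies of `O`. -/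
theorem exists_factor [CompactSpace X] [QuasiSeparatedSpace X] (hF : FlatMod.IsFinLocFree F)
    (f : Γ(X, ⊤)) (hD : IsAffineOpen (X.basicOpen f)) :
    ∃ (N r : ℕ) (φ : Fin r → (F ⟶ Coh.structureModule X)) (ψ : Fin r → (Coh.structureModule X ⟶ F))
      (c : Γ(X, ⊤)), mulEnd F (f ^ N) = (∑ j, φ j ≫ ψ j) ≫ mulEnd F c := by
  classical
  obtain ⟨hq, hfp⟩ := PullbackMod.isQCoh_and_isFP_of_isFinLocFree F hF
  haveI := hq
  haveI := QCohLib.finitePresentation_sections F hfp hD
  haveI := projective_sections F hF hD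
  haveI hH : Coh.IsQCoh (RefHull.homSh F (Coh.structureModule X)) := isQCoh_homSh_of_isFP hfp inferInstance
  haveI hE : Coh.IsQCoh (RefHull.homSh F F) := isQCoh_homSh_of_isFP hfp hq
  obtain ⟨r, p, i, -, -, hpi⟩ := Module.Finite.exists_comp_eq_id_of_projective Γ(X, X.basicOpen f) Γ(F, X.basicOpen f)
  have hc : IsCompact ((⊤ : X.Opens) : Set X) := isCompact_univ
  have hqs : IsQuasiSeparated ((⊤ : X.Opens) : Set X) := isQuasiSeparated_univ
  let θ : Fin r → (Γ(F, X.basicOpen f) →ₗ[Γ(X, X.basicOpen f)] Γ(Coh.structureModule X, X.basicOpen f)) :=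
    fun j => (LinearMap.proj j).comp i
  choose t ht using fun j => ev_surjective (M := F) (N := Coh.structureModule X) hD (θ j)
  choose a g hg using fun j =>
    QCohLib.exists_pow_extend_of_isQuasiSeparated (RefHull.homSh F (Coh.structureModule X)) hc hqs f (t j)
  choose b s hs using fun j =>
    QCohLib.exists_pow_extend_of_isQuasiSeparated F hc hqs f (p (Pi.single j 1))
  let k := Finset.univ.sup a ⊔ Finset.univ.sup b
  let ρ : Γ(X, ⊤) →+* Γ(X, X.basicOpen f) := (X.presheaf.map (homOfLE (le_top : X.basicOpen f ≤ ⊤)).op).hom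
  let φ : Fin r → (F ⟶ Coh.structureModule X) := fun j => toHom (f ^ (k - a j) • g j)
  let ψ : Fin r → (Coh.structureModule X ⟶ F) := fun j => ofSection F (f ^ (k - b j) • s j)
  let δ : F ⟶ F := mulEnd F (f ^ (k + k)) - ∑ j, φ j ≫ ψ j
  have hka : ∀ j, k - a j + a j = k := fun j =>
    Nat.sub_add_cancel ((Finset.le_sup (f := a) (Finset.mem_univ j)).trans le_sup_left)
  have hkb : ∀ j, k - b j + b j = k := fun j =>
    Nat.sub_add_cancel ((Finset.le_sup (f := b) (Finset.mem_univ j)).trans le_sup_right)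
  have hφ : ∀ j m, (φ j).app (X.basicOpen f) m = ρ (f ^ k) • θ j m := fun j m => by
    show ev (f ^ (k - a j) • g j) le_top m = _
    rw [ev_smul' _ (g j) le_top m]
    have h1 : ev (g j) (le_top : X.basicOpen f ≤ ⊤) m = ρ (f ^ a j) • θ j m := by
      rw [← ev_of_res (g j) le_top m, hg, sc_apply, ev_smul, ht]
      rfl
    rw [h1, ← mul_smul, ← map_mul, ← pow_add, hka]
  have hψ : ∀ j (c : Γ(X, X.basicOpen f)), (ψ j).app (X.basicOpen f) c = c • ρ (f ^ k) • p (Pi.single j 1) := fun j c => by
    rw [ofSection_app]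
    have h1 : F.presheaf.map (homOfLE (le_top : X.basicOpen f ≤ ⊤)).op (f ^ (k - b j) • s j) =
        ρ (f ^ k) • p (Pi.single j 1) := by
      rw [res_smul', hs, sc_apply]
      refine (smul_smul _ _ _).trans ?_
      show (ρ (f ^ (k - b j)) * ρ (f ^ b j)) • p (Pi.single j 1) = _
      rw [← map_mul, ← pow_add, hkb]
    rw [h1]
  have hδD : ∀ m, δ.app (X.basicOpen f) m = 0 := fun m => by
    simp only [δ, Scheme.Modules.Hom.sub_app, AddCommGrpCat.hom_sub, AddMonoidHom.sub_apply]
    rw [sub_eq_zero, mulEnd_app]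
    have hsum : (∑ j, φ j ≫ ψ j).app (X.basicOpen f) m =
        ∑ j, (ψ j).app (X.basicOpen f) ((φ j).app (X.basicOpen f) m) := app_sum _ _ m
    rw [hsum]
    show ρ (f ^ (k + k)) • m = _
    have hm : ∀ c : Fin r → Γ(X, X.basicOpen f), p c = ∑ j, c j • p (Pi.single j 1) := fun c => by
      conv_lhs => rw [show c = ∑ j, c j • (Pi.single j 1 : Fin r → Γ(X, X.basicOpen f)) from pi_eq_sum_univ' c]
      rw [map_sum]
      exact Finset.sum_congr rfl fun j _ => map_smul p _ _
    have hpim : p (i m) = m := LinearMap.congr_fun hpi m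
    conv_lhs => rw [← hpim, hm, Finset.smul_sum]
    refine Finset.sum_congr rfl fun j _ => ?_
    rw [hφ, hψ]
    show ρ (f ^ (k + k)) • (i m j) • p (Pi.single j 1) =
      (ρ (f ^ k) * i m j) • ρ (f ^ k) • p (Pi.single j 1)
    rw [smul_smul, smul_smul, pow_add, map_mul]
    congr 1
    ring
  have hres : (RefHull.homSh F F).presheaf.map (homOfLE (X.basicOpen_le f)).op (RefHull.ofHom δ ⊤) = 0 := by
    refine ev_injective hD (LinearMap.ext fun m => ?_)
    rw [ev_zero]
    refine (ev_of_res (RefHull.ofHom δ ⊤) le_top m).trans ?_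
    rw [← toHom_app, toHom_ofHom]
    exact hδD m
  obtain ⟨l, hl⟩ := QCohLib.exists_pow_zero_of_isCompact (RefHull.homSh F F) hc f (RefHull.ofHom δ ⊤) hres
  refine ⟨k + k + l, r, φ, ψ, f ^ l, sub_eq_zero.1 (Scheme.Modules.hom_ext _ _ fun V => ?_)⟩
  refine AddCommGrpCat.hom_ext (AddMonoidHom.ext fun m => ?_)
  have h0 : X.presheaf.map (homOfLE (le_top : V ≤ ⊤)).op (f ^ l) • δ.app V m = 0 := by
    have h1 := congrArg (fun e => ev e (le_top : V ≤ ⊤) m) hl
    simp only [ev_zero] at h1
    rw [sc_apply, ev_smul' _ (RefHull.ofHom δ ⊤) le_top m, ← toHom_app, toHom_ofHom] at h1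
    simpa [homOfLE_refl] using h1
  simp only [δ, Scheme.Modules.Hom.sub_app, AddCommGrpCat.hom_sub, AddMonoidHom.sub_apply, smul_sub,
    mulEnd_app, smul_smul] at h0
  simp only [Scheme.Modules.Hom.sub_app, AddCommGrpCat.hom_sub, AddMonoidHom.sub_apply,
    Scheme.Modules.Hom.comp_app, mulEnd_app]
  refine Eq.trans ?_ h0
  rw [← map_mul, ← pow_add, add_comm (k + k) l]
  rfl

end Groth.Agent.FactorOne
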